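import Groth.Agent.ChainConn.SpecIrred
import Mathlib.FieldTheory.SeparablyGenerated
import Mathlib.FieldTheory.PrimitiveElement
import Mathlib.FieldTheory.AlgebraicClosure
import Mathlib.FieldTheory.IsAlgClosed.AlgebraicClosure
import Mathlib.FieldTheory.Minpoly.IsIntegrallyClosed
import Mathlib.RingTheory.Polynomial.RationalRoot
import Mathlib.RingTheory.AdjoinRoot
import Mathlib.RingTheory.MvPolynomial.Basic
import Mathlib.RingTheory.AlgebraicIndependent.AlgebraicClosure
import Mathlib.RingTheory.Polynomial.UniqueFactorization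
import Mathlib.RingTheory.Localization.Away.Basic
import Mathlib.RingTheory.Localization.InvSubmonoid

/-!
A variety is dominated by one fibred over a curve with integral fibres over almost all closed points.
-/

set_option autoImplicit false
set_option linter.style.haveILetI false
set_option linter.unusedSectionVars false
set_option maxHeartbeats 6400000
set_option synthInstance.maxHeartbeats 200000
set_option backward.isDefEq.respectTransparency false

universe u

open scoped IntermediateField

namespace Groth.Agent.ChainConn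

variable {k : Type u} [Field k]

theorem optionEquivLeft_map {S₁ : Type*} {A B : Type*} [CommSemiring A] [CommSemiring B] (φ : A →+* B)
    (p : MvPolynomial (Option S₁) A) :
    MvPolynomial.optionEquivLeft B S₁ (MvPolynomial.map φ p) =
      (MvPolynomial.optionEquivLeft A S₁ p).map (MvPolynomial.map φ) := by
  induction p using MvPolynomial.induction_on with
  | C a => simp [MvPolynomial.optionEquivLeft_C]
  | add p q hp hq => simp [hp, hq]
  | mul_X p o hp =>
    cases o <;> simp [hp, MvPolynomial.optionEquivLeft_X_none, MvPolynomial.optionEquivLeft_X_some]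

theorem trdeg_algebraicClosure_le (K : Type u) [Field K] [Algebra k K] (x : K) :
    Algebra.trdeg k (algebraicClosure (IntermediateField.adjoin k ({x} : Set K)) K) ≤ 1 := by
  let E' := IntermediateField.adjoin k ({x} : Set K)
  let Eb := algebraicClosure E' K
  let xb : Eb := algebraMap E' Eb ⟨x, IntermediateField.subset_adjoin k _ rfl⟩
  let v : Eb →ₐ[k] K := (IntermediateField.val Eb).restrictScalars k
  have hmap : (Algebra.adjoin k ({xb} : Set Eb)).map v = Algebra.adjoin k ({x} : Set K) := by
    rw [AlgHom.map_adjoin, Set.image_singleton]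
    rfl
  haveI : Algebra.IsAlgebraic (Algebra.adjoin k ({xb} : Set Eb)) Eb := ⟨fun z => by
    have hz : IsAlgebraic (Algebra.adjoin k ({x} : Set K)) (z : K) :=
      IntermediateField.isAlgebraic_adjoin_iff.1 (mem_algebraicClosure_iff.1 z.2)
    let f : Algebra.adjoin k ({xb} : Set Eb) →+* Algebra.adjoin k ({x} : Set K) :=
      ((v.comp (Algebra.adjoin k ({xb} : Set Eb)).val).codRestrict _ fun a => by
        rw [← hmap]
        exact ⟨a.1, a.2, rfl⟩).toRingHom
    refine IsAlgebraic.of_ringHom_of_comp_eq (f := f) (g := v.toRingHom) hz ?_ v.toRingHom.injective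
      (RingHom.ext fun a => rfl)
    rintro ⟨w, hw⟩
    rw [← hmap] at hw
    obtain ⟨a, ha, rfl⟩ := hw
    exact ⟨⟨a, ha⟩, rfl⟩⟩
  exact (Algebra.IsAlgebraic.trdeg_le_cardinalMk k ({xb} : Set Eb)).trans (by simp)

/-- A variety is dominated by one fibred over a curve with integral fibres over almost all closed points. -/
theorem exists_fibration [IsAlgClosed k] (R : Type u) [CommRing R] [IsDomain R] [Algebra k R]
    [Algebra.FiniteType k R] (x : R) (hx : Transcendental k x) :
    ∃ (A T : Type u) (_ : CommRing A) (_ : CommRing T) (_ : IsDomain A) (_ : IsDomain T) (_ : Algebra k A)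
      (_ : Algebra k T) (_ : Algebra.FiniteType k A) (_ : Algebra.FiniteType k T) (ι : A →ₐ[k] T) (j : R →ₐ[k] T),
      Function.Injective ι ∧ Function.Injective j ∧ Algebra.trdeg k A ≤ 1 ∧ (∃ a : A, Transcendental k a) ∧
        Algebra.trdeg k T ≤ Algebra.trdeg k R ∧
        ∃ f : A, f ≠ 0 ∧ ∀ m : Ideal A, m.IsMaximal → f ∉ m →
          (m.map ι.toRingHom).IsPrime ∨ m.map ι.toRingHom = ⊤ := by
  classical
  let L := FractionRing R
  let K := AlgebraicClosure L
  haveI : FaithfulSMul R K := by
    rw [faithfulSMul_iff_algebraMap_injective, IsScalarTower.algebraMap_eq R L K]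
    exact (algebraMap L K).injective.comp (IsFractionRing.injective R L)
  let xK : K := algebraMap R K x
  have hxK : Transcendental k xK :=
    (transcendental_algebraMap_iff (FaithfulSMul.algebraMap_injective R K)).2 hx
  let E' := IntermediateField.adjoin k ({xK} : Set K)
  let Eb := algebraicClosure E' K
  haveI : IsAlgClosed Eb := IsAlgClosure.isAlgClosed (R := E')
  obtain ⟨gens, hgens⟩ := ‹Algebra.FiniteType k R›
  let L' := IntermediateField.adjoin Eb ((gens.image (algebraMap R K) : Finset K) : Set K)
  haveI : Algebra.EssFiniteType Eb L' :=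
    IntermediateField.essFiniteType_iff.2 (IntermediateField.fg_adjoin_finset _)
  obtain ⟨s, hs, hsep⟩ := exists_isTranscendenceBasis_and_isSeparable_of_perfectField Eb L'
  let F := IntermediateField.adjoin Eb (s : Set L')
  haveI : Algebra.IsSeparable F L' := hsep
  haveI : Algebra.EssFiniteType F L' := Algebra.EssFiniteType.of_comp Eb F L'
  haveI : FiniteDimensional F L' := Algebra.finite_of_essFiniteType_of_isAlgebraic
  obtain ⟨y₀, hy₀⟩ := Field.exists_primitive_element F L'
  -- an integral primitive element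
  let P₀ := MvPolynomial ↥s Eb
  let Φ : P₀ →ₐ[Eb] L' := MvPolynomial.aeval ((↑) : ↥s → L')
  have hΦ : Function.Injective Φ := hs.1
  letI : Algebra P₀ L' := Φ.toRingHom.toAlgebra
  haveI : FaithfulSMul P₀ L' := (faithfulSMul_iff_algebraMap_injective _ _).2 hΦ
  have halg : IsAlgebraic P₀ y₀ := by
    have hrange : Algebra.adjoin Eb (Set.range ((↑) : ↥s → L')) = Φ.range := Algebra.adjoin_range_eq_range_aeval _ _
    have h : IsAlgebraic (Algebra.adjoin Eb (Set.range ((↑) : ↥s → L'))) y₀ := hs.isAlgebraic.isAlgebraic y₀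
    rw [hrange] at h
    exact IsAlgebraic.of_ringHom_of_comp_eq (f := Φ.rangeRestrict.toRingHom) (g := RingHom.id L') h
      Φ.rangeRestrict_surjective Function.injective_id (RingHom.ext fun a => rfl)
  obtain ⟨c, hc, hint⟩ := halg.exists_integral_multiple
  let y : L' := c • y₀
  let v : Option ↥s → L' := fun o => o.elim y (↑)
  have htop : IntermediateField.adjoin Eb (Set.range v) = ⊤ := by
    have h1 : (s : Set L') ⊆ Set.range v := fun z hz => ⟨some ⟨z, hz⟩, rfl⟩
    have hy₀M : y₀ ∈ IntermediateField.adjoin Eb (Set.range v) := by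
      have hcM : Φ c ∈ IntermediateField.adjoin Eb (Set.range v) := by
        refine IntermediateField.algebra_adjoin_le_adjoin Eb _ (Algebra.adjoin_mono h1 ?_)
        have : Φ c ∈ Φ.range := ⟨c, rfl⟩
        rw [show Φ.range = Algebra.adjoin Eb (Set.range ((↑) : ↥s → L')) from
          (Algebra.adjoin_range_eq_range_aeval _ _).symm, Subtype.range_coe] at this
        exact this
      have hyM : y ∈ IntermediateField.adjoin Eb (Set.range v) := IntermediateField.subset_adjoin _ _ ⟨none, rfl⟩
      have he : y₀ = y / Φ c := by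
        have h0 : Φ c ≠ 0 := fun h => hc (hΦ (h.trans (map_zero Φ).symm))
        rw [eq_div_iff h0, show y = Φ c * y₀ from Algebra.smul_def c y₀, mul_comm]
      exact he ▸ div_mem hyM hcM
    rw [eq_top_iff, ← IntermediateField.restrictScalars_top (K := Eb) (F := F) (E := L'), ← hy₀,
      IntermediateField.adjoin_adjoin_left]
    refine IntermediateField.adjoin_le_iff.2 (Set.union_subset (h1.trans (IntermediateField.subset_adjoin _ _)) ?_)
    exact Set.singleton_subset_iff.2 hy₀M
  have hrep : ∀ g : L', ∃ G H : MvPolynomial (Option ↥s) Eb,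
      MvPolynomial.aeval v H ≠ 0 ∧ g * MvPolynomial.aeval v H = MvPolynomial.aeval v G := fun g => by
    obtain ⟨r, hr, t, ht, rfl⟩ := IntermediateField.mem_adjoin_iff_div.1
      (show g ∈ IntermediateField.adjoin Eb (Set.range v) by rw [htop]; trivial)
    rw [Algebra.adjoin_range_eq_range_aeval] at hr ht
    obtain ⟨G, rfl⟩ := hr
    obtain ⟨H, rfl⟩ := ht
    rcases eq_or_ne (MvPolynomial.aeval v H) 0 with h | h
    · exact ⟨0, 1, by simp, by simp [h]⟩
    · exact ⟨G, H, h, div_mul_cancel₀ _ h⟩
  choose GG HH hHH hGH using hrep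
  -- the coefficient ring
  let P : Polynomial P₀ := minpoly P₀ y
  let Po : MvPolynomial (Option ↥s) Eb := (MvPolynomial.optionEquivLeft Eb ↥s).symm P
  let gL : ↥gens → L' := fun g =>
    ⟨algebraMap R K g.1, IntermediateField.subset_adjoin _ _ (Finset.mem_coe.2 (Finset.mem_image_of_mem _ g.2))⟩
  let xb : Eb := algebraMap E' Eb ⟨xK, IntermediateField.subset_adjoin k _ rfl⟩
  let SA : Finset Eb := ({xb} : Finset Eb) ∪ Po.coeffs ∪
    Finset.univ.biUnion fun g : ↥gens => (GG (gL g)).coeffs ∪ (HH (gL g)).coeffs
  let A := Algebra.adjoin k (SA : Set Eb)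
  haveI : Algebra.FiniteType k A := (Subalgebra.fg_iff_finiteType _).1 (Subalgebra.fg_adjoin_finset _)
  have hdesc : ∀ G : MvPolynomial (Option ↥s) Eb, G.coeffs ⊆ SA →
      ∃ G' : MvPolynomial (Option ↥s) A, MvPolynomial.map (algebraMap A Eb) G' = G := fun G hG => by
    refine MvPolynomial.mem_range_map_iff_coeffs_subset.2 fun z hz => ?_
    exact ⟨⟨z, Algebra.subset_adjoin (hG hz)⟩, rfl⟩
  obtain ⟨Po', hPo'⟩ := hdesc Po (fun z hz => Finset.mem_union_left _ (Finset.mem_union_right _ hz))
  have hG' : ∀ g : ↥gens, ∃ G' H' : MvPolynomial (Option ↥s) A,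
      MvPolynomial.map (algebraMap A Eb) G' = GG (gL g) ∧ MvPolynomial.map (algebraMap A Eb) H' = HH (gL g) := fun g => by
    obtain ⟨G', hG'⟩ := hdesc (GG (gL g)) fun z hz => Finset.mem_union_right _
      (Finset.mem_biUnion.2 ⟨g, Finset.mem_univ _, Finset.mem_union_left _ hz⟩)
    obtain ⟨H', hH'⟩ := hdesc (HH (gL g)) fun z hz => Finset.mem_union_right _
      (Finset.mem_biUnion.2 ⟨g, Finset.mem_univ _, Finset.mem_union_right _ hz⟩)
    exact ⟨G', H', hG', hH'⟩
  choose G' H' hG' hH' using hG'
  let μ : MvPolynomial ↥s A →+* P₀ := MvPolynomial.map (algebraMap A Eb)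
  have hμ : Function.Injective μ := MvPolynomial.map_injective _ Subtype.val_injective
  let PA : Polynomial (MvPolynomial ↥s A) := MvPolynomial.optionEquivLeft A ↥s Po'
  have hPA : PA.map μ = P := by
    rw [← optionEquivLeft_map, hPo', AlgEquiv.apply_symm_apply]
  have hmonic : PA.Monic := Polynomial.monic_of_injective hμ (hPA.symm ▸ minpoly.monic hint)
  let Q := AdjoinRoot PA
  let Φ' : MvPolynomial ↥s A →+* L' := Φ.toRingHom.comp μ
  have hev : ∀ q : Polynomial (MvPolynomial ↥s A), q.eval₂ Φ' y = Polynomial.aeval y (q.map μ) := fun q => by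
    rw [Polynomial.aeval_def, Polynomial.eval₂_map]
    rfl
  let χ : Q →+* L' := AdjoinRoot.lift Φ' y (by rw [hev, hPA]; exact minpoly.aeval _ _)
  have hχ : Function.Injective χ := by
    rw [injective_iff_map_eq_zero]
    intro z hz
    obtain ⟨q, rfl⟩ := AdjoinRoot.mk_surjective z
    rw [AdjoinRoot.lift_mk, hev] at hz
    rw [AdjoinRoot.mk_eq_zero, ← Polynomial.modByMonic_eq_zero_iff_dvd hmonic]
    refine Polynomial.map_injective μ hμ ?_
    rw [Polynomial.map_modByMonic μ hmonic, hPA, Polynomial.map_zero,
      Polynomial.modByMonic_eq_zero_iff_dvd (minpoly.monic hint)]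
    haveI : IsIntegrallyClosed P₀ := UniqueFactorizationMonoid.instIsIntegrallyClosed
    exact minpoly.isIntegrallyClosed_dvd hint hz
  haveI : IsDomain Q := hχ.isDomain χ
  let qm : MvPolynomial (Option ↥s) A → Q := fun G => AdjoinRoot.mk PA (MvPolynomial.optionEquivLeft A ↥s G)
  have hqm : ∀ G, χ (qm G) = MvPolynomial.aeval v (MvPolynomial.map (algebraMap A Eb) G) := fun G => by
    show χ (AdjoinRoot.mk PA _) = _
    rw [AdjoinRoot.lift_mk, hev, ← optionEquivLeft_map]
    generalize MvPolynomial.map (algebraMap A Eb) G = W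
    induction W using MvPolynomial.induction_on with
    | C a =>
      rw [MvPolynomial.optionEquivLeft_C, Polynomial.aeval_C, MvPolynomial.aeval_C]
      exact MvPolynomial.aeval_C _ a
    | add p q hp hq => rw [map_add, map_add, map_add, hp, hq]
    | mul_X p o hp =>
      rw [map_mul, map_mul, map_mul, hp]
      congr 1
      cases o with
      | none => rw [MvPolynomial.optionEquivLeft_X_none, Polynomial.aeval_X, MvPolynomial.aeval_X]; rfl
      | some i =>
        rw [MvPolynomial.optionEquivLeft_X_some, Polynomial.aeval_C, MvPolynomial.aeval_X]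
        exact MvPolynomial.aeval_X _ i
  let hq : Q := ∏ g : ↥gens, qm (H' g)
  have hHne : ∀ g, χ (qm (H' g)) ≠ 0 := fun g => by rw [hqm, hH']; exact hHH _
  have hq0 : hq ≠ 0 := Finset.prod_ne_zero_iff.2 fun g _ h => hHne g (by rw [h, map_zero])
  let T := Localization.Away hq
  have hle : Submonoid.powers hq ≤ nonZeroDivisors Q := powers_le_nonZeroDivisors_of_noZeroDivisors hq0
  haveI : IsDomain T := IsLocalization.isDomain_localization hle
  haveI : Algebra.FiniteType k (Polynomial (MvPolynomial ↥s A)) := by
    haveI : Algebra.FiniteType k (MvPolynomial ↥s A) := Algebra.FiniteType.trans (R := k) (S := A) inferInstance inferInstance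
    exact Algebra.FiniteType.trans (R := k) (S := MvPolynomial ↥s A) inferInstance inferInstance
  haveI : Algebra.FiniteType k Q :=
    Algebra.FiniteType.of_surjective ({ AdjoinRoot.mk PA with commutes' := fun _ => rfl } :
      Polynomial (MvPolynomial ↥s A) →ₐ[k] Q) AdjoinRoot.mk_surjective
  haveI : Algebra.FiniteType Q T := IsLocalization.finiteType_of_monoid_fg (Submonoid.powers hq) T
  haveI : Algebra.FiniteType k T := Algebra.FiniteType.trans (R := k) (S := Q) inferInstance inferInstance
  let χT₀ : T →+* K := IsLocalization.lift (M := Submonoid.powers hq)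
    (g := (algebraMap L' K).comp χ) fun a => by
      obtain ⟨_, n, rfl⟩ := a
      rw [RingHom.comp_apply, map_pow, map_pow]
      refine (Ne.isUnit fun h => hq0 (hχ ?_)).pow n
      rw [(map_eq_zero _).1 h, map_zero]
  have hT0 : ∀ z, χT₀ (algebraMap Q T z) = algebraMap L' K (χ z) := fun z => IsLocalization.lift_eq _ z
  have hcA : ∀ a : A, χ (AdjoinRoot.of PA (MvPolynomial.C a)) = algebraMap Eb L' (a : Eb) := fun a => by
    rw [AdjoinRoot.lift_of]
    show Φ (μ (MvPolynomial.C a)) = _
    rw [show μ (MvPolynomial.C a) = MvPolynomial.C (a : Eb) from MvPolynomial.map_C _ _]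
    exact MvPolynomial.aeval_C _ _
  let χT : T →ₐ[k] K :=
    { χT₀ with
      commutes' := fun c => by
        show χT₀ (algebraMap k T c) = _
        rw [IsScalarTower.algebraMap_apply k Q T, hT0,
          show algebraMap k Q c = AdjoinRoot.of PA (MvPolynomial.C (algebraMap k A c)) from rfl, hcA]
        rfl }
  have hχT : Function.Injective χT := by
    show Function.Injective χT₀
    refine (IsLocalization.lift_injective_iff _).2 fun a b => ?_
    rw [RingHom.comp_apply, RingHom.comp_apply, (algebraMap L' K).injective.eq_iff, hχ.eq_iff,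
      (IsLocalization.injective T hle).eq_iff]
  let ι : A →ₐ[k] T :=
    { ((algebraMap Q T).comp ((AdjoinRoot.of PA).comp MvPolynomial.C)) with
      commutes' := fun c => (IsScalarTower.algebraMap_apply k Q T c).symm }
  have hι : Function.Injective ι := fun a b h => by
    have := congrArg χT₀ h
    change χT₀ (algebraMap Q T (AdjoinRoot.of PA (MvPolynomial.C a))) =
      χT₀ (algebraMap Q T (AdjoinRoot.of PA (MvPolynomial.C b))) at this
    rw [hT0, hT0, hcA, hcA] at this
    exact Subtype.ext ((algebraMap Eb L').injective ((algebraMap L' K).injective this))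
  have hrange : (IsScalarTower.toAlgHom k R K).range ≤ χT.range := by
    rw [← Algebra.map_top, ← hgens, AlgHom.map_adjoin, Algebra.adjoin_le_iff]
    rintro _ ⟨g, hg, rfl⟩
    let G : ↥gens := ⟨g, hg⟩
    refine ⟨algebraMap Q T (qm (G' G) * ∏ g' ∈ Finset.univ.erase G, qm (H' g')) *
      IsLocalization.Away.invSelf hq, ?_⟩
    show χT₀ _ = algebraMap R K g
    have hinv : χT₀ (IsLocalization.Away.invSelf (S := T) hq) * algebraMap L' K (χ hq) = 1 := by
      rw [← hT0, ← map_mul, mul_comm, IsLocalization.Away.mul_invSelf, map_one]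
    rw [map_mul, hT0]
    have hq' : hq = qm (H' G) * ∏ g' ∈ Finset.univ.erase G, qm (H' g') :=
      (Finset.mul_prod_erase _ _ (Finset.mem_univ G)).symm
    have hg' : χ (qm (G' G)) = gL G * χ (qm (H' G)) := by rw [hqm, hqm, hG', hH', hGH]
    rw [map_mul χ, hg', mul_assoc (gL G), ← map_mul χ, ← hq', map_mul, mul_assoc, mul_comm (algebraMap L' K (χ hq)),
      hinv, mul_one]
    rfl
  let e := AlgEquiv.ofInjective χT hχT
  let j : R →ₐ[k] T := e.symm.toAlgHom.comp
    ((IsScalarTower.toAlgHom k R K).codRestrict χT.range fun r => hrange ⟨r, rfl⟩)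
  have hj : Function.Injective j := e.symm.injective.comp fun a b h =>
    FaithfulSMul.algebraMap_injective R K (congrArg Subtype.val h)
  refine ⟨A, T, inferInstance, inferInstance, inferInstance, inferInstance, inferInstance, inferInstance,
    inferInstance, inferInstance, ι, j, hι, hj, ?_, ?_, ?_, ?_⟩
  · exact (trdeg_le_of_injective A.val Subtype.val_injective).trans (trdeg_algebraicClosure_le K xK)
  · refine ⟨⟨xb, Algebra.subset_adjoin (by simp [SA])⟩, ?_⟩
    haveI : IsScalarTower k A K := IsScalarTower.of_algebraMap_eq fun _ => rfl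
    exact (transcendental_algebraMap_iff (R := k) (S := A) (A := K)
      (fun a b h => Subtype.ext (Subtype.ext h))).1 hxK
  · refine (trdeg_le_of_injective χT hχT).trans ?_
    haveI : Algebra.IsAlgebraic R K := by
      haveI : Algebra.IsAlgebraic R L := IsLocalization.isAlgebraic L (nonZeroDivisors R)
      exact Algebra.IsAlgebraic.trans R L K
    have := lift_trdeg_add_eq k R K
    rw [trdeg_eq_zero (R := R) (A := K)] at this
    simpa using this.ge
  -- the fibres
  have hirr : Irreducible (MvPolynomial.map (algebraMap A Eb) Po') := by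
    rw [hPo']
    exact (MulEquiv.irreducible_iff (MvPolynomial.optionEquivLeft Eb ↥s).symm.toRingEquiv.toMulEquiv).2
      (minpoly.irreducible hint)
  haveI : FaithfulSMul A Eb := (faithfulSMul_iff_algebraMap_injective _ _).2 Subtype.val_injective
  obtain ⟨f, hf, hspec⟩ := exists_ne_zero_irreducible_map Po' Eb hirr
  refine ⟨f, hf, fun m hm hfm => ?_⟩
  letI : Field (A ⧸ m) := Ideal.Quotient.field m
  let φ := Ideal.Quotient.mk m
  have hirr' : Irreducible (PA.map (MvPolynomial.map φ : MvPolynomial ↥s A →+* MvPolynomial ↥s (A ⧸ m))) := by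
    rw [← optionEquivLeft_map]
    exact (MulEquiv.irreducible_iff (MvPolynomial.optionEquivLeft (A ⧸ m) ↥s).toRingEquiv.toMulEquiv).2
      (hspec (A ⧸ m) φ fun h => hfm (Ideal.Quotient.eq_zero_iff_mem.1 h))
  let ρ : Polynomial (MvPolynomial ↥s A) →+* Polynomial (MvPolynomial ↥s (A ⧸ m)) :=
    Polynomial.mapRingHom (MvPolynomial.map φ)
  have hρ : Function.Surjective ρ :=
    Polynomial.map_surjective _ (MvPolynomial.map_surjective _ Ideal.Quotient.mk_surjective)
  let J : Ideal (Polynomial (MvPolynomial ↥s A)) := Ideal.span {PA} ⊔ RingHom.ker ρ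
  have hJ : J.IsPrime := by
    have : J = (Ideal.span {ρ PA}).comap ρ := by
      rw [← Set.image_singleton, ← Ideal.map_span, Ideal.comap_map_of_surjective ρ hρ, ← RingHom.ker_eq_comap_bot]
    rw [this]
    haveI : (Ideal.span {ρ PA}).IsPrime := (Ideal.span_singleton_prime hirr'.ne_zero).2 hirr'.prime
    exact Ideal.IsPrime.comap ρ
  have hker : RingHom.ker ρ = m.map ((Polynomial.C).comp MvPolynomial.C) := by
    rw [← Ideal.map_map, Polynomial.ker_mapRingHom, MvPolynomial.ker_map, Ideal.mk_ker]
  have hQm : (m.map ((AdjoinRoot.of PA).comp MvPolynomial.C)).IsPrime := by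
    have : m.map ((AdjoinRoot.of PA).comp MvPolynomial.C) = J.map (AdjoinRoot.mk PA) := by
      rw [Ideal.map_sup, hker, Ideal.map_map, Ideal.map_span, Set.image_singleton, AdjoinRoot.mk_self,
        Ideal.span_singleton_eq_bot.2 rfl, bot_sup_eq]
      rfl
    rw [this]
    haveI := hJ
    refine Ideal.map_isPrime_of_surjective AdjoinRoot.mk_surjective fun z hz => Ideal.mem_sup_left ?_
    rw [RingHom.mem_ker, AdjoinRoot.mk_eq_zero] at hz
    exact Ideal.mem_span_singleton.2 hz
  rw [show m.map ι.toRingHom = (m.map ((AdjoinRoot.of PA).comp MvPolynomial.C)).map (algebraMap Q T) from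
    (Ideal.map_map _ _).symm]
  by_cases hd : Disjoint (Submonoid.powers hq : Set Q) (m.map ((AdjoinRoot.of PA).comp MvPolynomial.C) : Set Q)
  · exact Or.inl (IsLocalization.isPrime_of_isPrime_disjoint _ T _ hQm hd)
  · obtain ⟨z, hz1, hz2⟩ := Set.not_disjoint_iff.1 hd
    exact Or.inr (Ideal.eq_top_of_isUnit_mem _ (Ideal.mem_map_of_mem _ hz2)
      (IsLocalization.map_units T ⟨z, hz1⟩))

end Groth.Agent.ChainConn
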