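import Mathlib.Algebra.MvPolynomial.Nilpotent
import Mathlib.Algebra.MvPolynomial.NoZeroDivisors
import Mathlib.RingTheory.Jacobson.Ring
import Mathlib.RingTheory.MvPolynomial.Localization
import Mathlib.FieldTheory.IsAlgClosed.Basic
import Mathlib.RingTheory.Localization.FractionRing
import Mathlib.Order.Interval.Finset.Defs
import Mathlib.Data.Finsupp.Interval
import Mathlib.RingTheory.FiniteType
import Mathlib.RingTheory.Ideal.Quotient.Operations

/-!
Absolute irreducibility of a polynomial survives specialisation away from a non-zero element.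
-/

set_option autoImplicit false
set_option linter.style.haveILetI false
set_option linter.unusedSectionVars false
set_option maxHeartbeats 800000

universe u v

open MvPolynomial

namespace Groth.Agent.ChainConn

variable {τ : Type v} [Fintype τ] [DecidableEq τ]

/-- The exponents bounded by `D` in every variable. -/
noncomputable def box (D : ℕ) : Finset (τ →₀ ℕ) :=
  Finset.Iic (Finsupp.equivFunOnFinite.symm fun _ => D)

theorem mem_box {D : ℕ} {e : τ →₀ ℕ} : e ∈ box D ↔ ∀ i, e i ≤ D := by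
  simp [box, Finsupp.le_def]

theorem exists_nonconstant {κ : Type*} [Field κ] {g : MvPolynomial τ κ} (hg0 : g ≠ 0) (hg : ¬ IsUnit g) :
    ∃ e, e ≠ 0 ∧ g.coeff e ≠ 0 := by
  by_contra h
  push Not at h
  have hgC : g = C (g.coeff 0) := MvPolynomial.ext _ _ fun e => by
    rw [coeff_C]
    split_ifs with he
    · rw [← he]
    · exact h e (Ne.symm he)
  refine hg ?_
  rw [hgC]
  exact (Ne.isUnit fun h0 => hg0 (by rw [hgC, h0, map_zero])).map C

theorem not_isUnit_of_coeff {κ : Type*} [Field κ] {g : MvPolynomial τ κ} {e : τ →₀ ℕ} (he : e ≠ 0)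
    (h : g.coeff e ≠ 0) : ¬ IsUnit g := fun hu => by
  obtain ⟨r, -, hr⟩ := (MvPolynomial.isUnit_iff_eq_C_of_isReduced).1 hu
  rw [hr, coeff_C, if_neg (Ne.symm he)] at h
  exact h rfl

/-- Absolute irreducibility survives specialisation away from a non-zero element. -/
theorem exists_ne_zero_irreducible_map {A : Type u} [CommRing A] [IsDomain A] (P : MvPolynomial τ A)
    (K : Type u) [Field K] [IsAlgClosed K] [Algebra A K] [FaithfulSMul A K]
    (hP : Irreducible (MvPolynomial.map (algebraMap A K) P)) :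
    ∃ f : A, f ≠ 0 ∧ ∀ (κ : Type u) [Field κ] (φ : A →+* κ), φ f ≠ 0 → Irreducible (MvPolynomial.map φ P) := by
  classical
  obtain ⟨e₀, he₀, hce₀⟩ := exists_nonconstant hP.ne_zero hP.not_isUnit
  rw [coeff_map] at hce₀
  let D := P.totalDegree
  let B : Finset (τ →₀ ℕ) := box D
  let σ := (↥B ⊕ ↥B) ⊕ Unit
  let C₀ := MvPolynomial σ A
  let G : MvPolynomial τ C₀ := ∑ e : ↥B, monomial e.1 (X (Sum.inl (Sum.inl e)))
  let H : MvPolynomial τ C₀ := ∑ e : ↥B, monomial e.1 (X (Sum.inl (Sum.inr e)))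
  let I : ↥B → ↥B → Ideal C₀ := fun a b =>
    Ideal.span (Set.range (fun e => coeff e (G * H - MvPolynomial.map (algebraMap A C₀) P)) ∪
      {X (Sum.inl (Sum.inl a)) - 1, X (Sum.inl (Sum.inr b)) * X (Sum.inr ()) - 1})
  have coeffG : ∀ {κ : Type u} [CommRing κ] (Θ : C₀ →+* κ) (e : ↥B),
      (MvPolynomial.map Θ G).coeff e.1 = Θ (X (Sum.inl (Sum.inl e))) := by
    intro κ _ Θ e
    rw [coeff_map, MvPolynomial.coeff_sum, Finset.sum_eq_single e
      (fun e' _ h => by rw [coeff_monomial, if_neg fun h' => h (Subtype.ext h')])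
      (fun h => absurd (Finset.mem_univ e) h), coeff_monomial, if_pos rfl]
  have coeffH : ∀ {κ : Type u} [CommRing κ] (Θ : C₀ →+* κ) (e : ↥B),
      (MvPolynomial.map Θ H).coeff e.1 = Θ (X (Sum.inl (Sum.inr e))) := by
    intro κ _ Θ e
    rw [coeff_map, MvPolynomial.coeff_sum, Finset.sum_eq_single e
      (fun e' _ h => by rw [coeff_monomial, if_neg fun h' => h (Subtype.ext h')])
      (fun h => absurd (Finset.mem_univ e) h), coeff_monomial, if_pos rfl]
  -- no solution over `K`, so some non-zero element of `A` lies in each ideal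
  have hI : ∀ a b : ↥B, a.1 ≠ 0 → b.1 ≠ 0 → ∃ f : A, f ≠ 0 ∧ algebraMap A C₀ f ∈ I a b := by
    intro a b ha hb
    let F := FractionRing A
    let Φ : C₀ →+* MvPolynomial σ F := MvPolynomial.map (algebraMap A F)
    by_cases htop : (I a b).map Φ = ⊤
    · letI : Algebra C₀ (MvPolynomial σ F) := Φ.toAlgebra
      haveI hloc : IsLocalization ((nonZeroDivisors A).map (C : A →+* C₀)) (MvPolynomial σ F) :=
        MvPolynomial.isLocalization (nonZeroDivisors A) F
      have h1 : (1 : MvPolynomial σ F) ∈ (I a b).map (algebraMap C₀ (MvPolynomial σ F)) := by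
        show (1 : MvPolynomial σ F) ∈ (I a b).map Φ
        rw [htop]; trivial
      obtain ⟨⟨⟨x, hx⟩, ⟨m, hm⟩⟩, hxm⟩ :=
        (IsLocalization.mem_map_algebraMap_iff ((nonZeroDivisors A).map (C : A →+* C₀)) _).1 h1
      rw [one_mul] at hxm
      obtain ⟨f, hf, rfl⟩ := hm
      refine ⟨f, nonZeroDivisors.ne_zero hf, ?_⟩
      have : Function.Injective Φ := MvPolynomial.map_injective _ (IsFractionRing.injective A F)
      exact (this hxm : (C f : C₀) = x) ▸ hx
    · exfalso
      obtain ⟨M, hM, hle⟩ := Ideal.exists_le_maximal _ htop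
      let R := MvPolynomial σ F ⧸ M
      letI : Field R := Ideal.Quotient.field M
      haveI : Module.Finite F R := finite_of_finite_type_of_isJacobsonRing F R
      haveI : Algebra.IsAlgebraic F R := Algebra.IsAlgebraic.of_finite F R
      letI : Algebra F K := (IsFractionRing.lift (FaithfulSMul.algebraMap_injective A K)).toAlgebra
      haveI : IsScalarTower A F K := IsScalarTower.of_algebraMap_eq fun x =>
        (IsFractionRing.lift_algebraMap (FaithfulSMul.algebraMap_injective A K) x).symm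
      let ι : R →ₐ[F] K := IsAlgClosed.lift
      let Θ : C₀ →+* K := ι.toRingHom.comp ((Ideal.Quotient.mk M).comp Φ)
      have hΘ : Θ.comp (algebraMap A C₀) = algebraMap A K := RingHom.ext fun x => by
        show ι (Ideal.Quotient.mk M (Φ (C x))) = _
        rw [show Φ (C x) = C (algebraMap A F x) from MvPolynomial.map_C _ _,
          IsScalarTower.algebraMap_apply A F K]
        exact ι.commutes (algebraMap A F x)
      have hker : ∀ x ∈ I a b, Θ x = 0 := fun x hx => by
        show ι (Ideal.Quotient.mk M (Φ x)) = 0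
        rw [Ideal.Quotient.eq_zero_iff_mem.2 (hle (Ideal.mem_map_of_mem Φ hx)), map_zero]
      have heq : MvPolynomial.map Θ G * MvPolynomial.map Θ H = MvPolynomial.map (algebraMap A K) P := by
        rw [← map_mul]
        ext e
        have h0 := hker _ (Ideal.subset_span (Or.inl ⟨e, rfl⟩))
        simp only [MvPolynomial.coeff_sub, map_sub, sub_eq_zero] at h0
        rw [coeff_map, h0, coeff_map, coeff_map, ← RingHom.comp_apply, hΘ]
      have hGa : Θ (X (Sum.inl (Sum.inl a))) = 1 := by
        have := hker _ (Ideal.subset_span (Or.inr (Or.inl rfl)))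
        rwa [map_sub, map_one, sub_eq_zero] at this
      have hHb : Θ (X (Sum.inl (Sum.inr b))) * Θ (X (Sum.inr ())) = 1 := by
        have := hker _ (Ideal.subset_span (Or.inr (Or.inr rfl)))
        rwa [map_sub, map_one, map_mul, sub_eq_zero] at this
      rcases hP.isUnit_or_isUnit heq.symm with h | h
      · exact not_isUnit_of_coeff ha (by rw [coeffG, hGa]; exact one_ne_zero) h
      · exact not_isUnit_of_coeff hb (by rw [coeffH]; exact left_ne_zero_of_mul_eq_one hHb) h
  choose! fab hfab0 hfab using hI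
  let S := (Finset.univ : Finset (↥B × ↥B)).filter fun p => p.1.1 ≠ 0 ∧ p.2.1 ≠ 0
  refine ⟨P.coeff e₀ * ∏ p ∈ S, fab p.1 p.2, mul_ne_zero (fun h => hce₀ (by rw [h, map_zero]))
    (Finset.prod_ne_zero_iff.2 fun p hp => hfab0 _ _ (Finset.mem_filter.1 hp).2.1 (Finset.mem_filter.1 hp).2.2),
    fun κ _ φ hφ => ?_⟩
  rw [map_mul, mul_ne_zero_iff, map_prod, Finset.prod_ne_zero_iff] at hφ
  have hne : MvPolynomial.map φ P ≠ 0 := fun h => hφ.1 (by rw [← coeff_map, h, coeff_zero])
  refine ⟨not_isUnit_of_coeff he₀ (by rw [coeff_map]; exact hφ.1), fun g h hgh => ?_⟩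
  by_contra hcon
  push Not at hcon
  obtain ⟨hg0, hh0⟩ := mul_ne_zero_iff.1 (hgh ▸ hne)
  obtain ⟨ea, hea, hga⟩ := exists_nonconstant hg0 hcon.1
  obtain ⟨eb, heb, hhb⟩ := exists_nonconstant hh0 hcon.2
  let c := g.coeff ea
  let g' := C c⁻¹ * g
  let h' := C c * h
  have hgh' : g' * h' = MvPolynomial.map φ P := by
    rw [hgh, mul_mul_mul_comm, ← map_mul, inv_mul_cancel₀ hga, map_one, one_mul]
  have hdeg : g.totalDegree + h.totalDegree ≤ D := by
    rw [← totalDegree_mul_of_isDomain hg0 hh0, ← hgh]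
    exact Finset.sup_mono (support_map_subset _ _)
  have hbox : ∀ (q : MvPolynomial τ κ), q.totalDegree ≤ D → ∀ e, q.coeff e ≠ 0 → e ∈ B := by
    intro q hq e he
    refine mem_box.2 fun i => le_trans ?_ ((le_totalDegree (mem_support_iff.2 he)).trans hq)
    by_cases hi : i ∈ e.support
    · exact Finset.single_le_sum (fun j _ => Nat.zero_le (e j)) hi
    · simp [Finsupp.notMem_support_iff.1 hi]
  have hgsupp : ∀ e, g'.coeff e ≠ 0 → e ∈ B := fun e he => hbox g (by omega) e fun h0 => he (by
    show (C c⁻¹ * g).coeff e = 0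
    rw [coeff_C_mul, h0, mul_zero])
  have hhsupp : ∀ e, h'.coeff e ≠ 0 → e ∈ B := fun e he => hbox h (by omega) e fun h0 => he (by
    show (C c * h).coeff e = 0
    rw [coeff_C_mul, h0, mul_zero])
  have heaB : ea ∈ B := hbox g (by omega) ea hga
  have hebB : eb ∈ B := hbox h (by omega) eb hhb
  let ψ : C₀ →+* κ := MvPolynomial.eval₂Hom φ
    (Sum.elim (Sum.elim (fun e => g'.coeff e.1) fun e => h'.coeff e.1) fun _ => (h'.coeff eb)⁻¹)
  have hψ : ψ.comp (algebraMap A C₀) = φ := RingHom.ext fun x => MvPolynomial.eval₂Hom_C _ _ _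
  have mapG : MvPolynomial.map ψ G = g' := by
    ext e
    by_cases he : e ∈ B
    · rw [coeffG ψ ⟨e, he⟩]
      exact MvPolynomial.eval₂Hom_X' _ _ _
    · rw [coeff_map, MvPolynomial.coeff_sum, Finset.sum_eq_zero fun e' _ => by
        rw [coeff_monomial, if_neg (ne_of_mem_of_not_mem e'.2 he)], map_zero]
      by_contra h0
      exact he (hgsupp e (Ne.symm h0))
  have mapH : MvPolynomial.map ψ H = h' := by
    ext e
    by_cases he : e ∈ B
    · rw [coeffH ψ ⟨e, he⟩]
      exact MvPolynomial.eval₂Hom_X' _ _ _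
    · rw [coeff_map, MvPolynomial.coeff_sum, Finset.sum_eq_zero fun e' _ => by
        rw [coeff_monomial, if_neg (ne_of_mem_of_not_mem e'.2 he)], map_zero]
      by_contra h0
      exact he (hhsupp e (Ne.symm h0))
  have hle : I ⟨ea, heaB⟩ ⟨eb, hebB⟩ ≤ RingHom.ker ψ := by
    refine Ideal.span_le.2 ?_
    rintro x (⟨e, rfl⟩ | hx | hx)
    · rw [SetLike.mem_coe, RingHom.mem_ker, ← coeff_map, map_sub, map_mul, mapG, mapH, MvPolynomial.map_map, hψ,
        hgh', sub_self, coeff_zero]
    · rw [hx, SetLike.mem_coe, RingHom.mem_ker, map_sub, map_one, sub_eq_zero]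
      refine (MvPolynomial.eval₂Hom_X' _ _ _).trans ?_
      show (C c⁻¹ * g).coeff ea = 1
      rw [coeff_C_mul, inv_mul_cancel₀ hga]
    · rw [Set.mem_singleton_iff] at hx
      rw [hx, SetLike.mem_coe, RingHom.mem_ker, map_sub, map_one, map_mul, sub_eq_zero]
      rw [MvPolynomial.eval₂Hom_X', MvPolynomial.eval₂Hom_X']
      refine mul_inv_cancel₀ ?_
      show (C c * h).coeff eb ≠ 0
      rw [coeff_C_mul]
      exact mul_ne_zero hga hhb
  have h1 := hle (hfab ⟨ea, heaB⟩ ⟨eb, hebB⟩ hea heb)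
  rw [RingHom.mem_ker, ← RingHom.comp_apply, hψ] at h1
  exact hφ.2 (⟨ea, heaB⟩, ⟨eb, hebB⟩) (Finset.mem_filter.2 ⟨Finset.mem_univ _, hea, heb⟩) h1

end Groth.Agent.ChainConn
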